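import Groth.Agent.Lib.FlatDepth.RingFib
import Groth.Agent.Lib.FlatDepth.FibBC
import Groth.Agent.Lib.FibRing4
import Groth.Agent.Lib.NormalExt19.Basic
import Groth.Prelude.Def_EGA4b
import Mathlib

/-!
# Normality of flat families with reduced fibres and normal generic fibres
-/

set_option autoImplicit false
set_option linter.style.haveILetI false
set_option backward.isDefEq.respectTransparency.types false
universe u

open AlgebraicGeometry CategoryTheory

namespace Groth.Agent.FlatNormal19

open Groth.Agent.FlatDepth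

/-- Flat over normal, with reduced fibres and normal fibres over minimal primes, is normal. -/
theorem isNormalRing_of_reduced_fibres {A B : Type u} [CommRing A] [CommRing B] [Algebra A B]
    [IsNoetherianRing A] [IsNoetherianRing B] [Module.Flat A B] (hA : EGA4.IsNormalRing A)
    (hred : ∀ (p : Ideal A) [p.IsPrime], _root_.IsReduced (p.Fiber B))
    (hgen : ∀ (p : Ideal A) [p.IsPrime], p.height = 0 → EGA4.IsNormalRing (p.Fiber B)) :
    EGA4.IsNormalRing B := by
  have hr : ∀ (q : Ideal B) [q.IsPrime],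
      LocCoh.HasRk 0 (EGA4.FibLocRing A B q) ∧ LocCoh.HasSk 1 (EGA4.FibLocRing A B q) (EGA4.FibLocRing A B q) := fun q _ => by
    obtain ⟨p, _, Q, _, ⟨e⟩⟩ := exists_fibLoc_equiv (A := A) q
    haveI := hred p
    haveI : _root_.IsReduced (Localization.AtPrime Q) :=
      isReduced_localizationPreserves Q.primeCompl (Localization.AtPrime Q) inferInstance
    exact SerreCrit.isReduced_iff.1 (isReduced_of_injective e.symm.toRingHom e.symm.injective)
  have hn : ∀ (q : Ideal B) [q.IsPrime], ringKrullDim (Localization.AtPrime (q.comap (algebraMap A B))) = 0 →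
      LocCoh.HasRk 1 (EGA4.FibLocRing A B q) ∧
      LocCoh.HasSk 2 (EGA4.FibLocRing A B q) (EGA4.FibLocRing A B q) := fun q _ h0 => by
    obtain ⟨p, hp, Q, _, ⟨e⟩, hpq⟩ : ∃ (p : Ideal A) (_ : p.IsPrime) (Q : Ideal (p.Fiber B)) (_ : Q.IsPrime),
        Nonempty (Localization.AtPrime Q ≃+* EGA4.FibLocRing A B q) ∧ p = q.comap (algebraMap A B) := by
      let p : PrimeSpectrum A := PrimeSpectrum.comap (algebraMap A B) ⟨q, ‹_›⟩
      let Q := PrimeSpectrum.preimageEquivFiber A B p ⟨⟨q, ‹_›⟩, rfl⟩
      have hQ : Q.asIdeal.comap (Algebra.TensorProduct.includeRight : B →ₐ[A] p.asIdeal.Fiber B) = q :=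
        congrArg (fun x => x.1.asIdeal)
          ((PrimeSpectrum.preimageEquivFiber A B p).symm_apply_apply ⟨⟨q, ‹_›⟩, rfl⟩)
      have key : ∀ (a : Ideal B) [a.IsPrime], a = q →
          Nonempty (Localization.AtPrime Q.asIdeal ≃+* EGA4.FibLocRing A B a) →
          Nonempty (Localization.AtPrime Q.asIdeal ≃+* EGA4.FibLocRing A B q) := by
        intro a _ e h; subst e; exact h
      refine ⟨p.asIdeal, p.2, Q.asIdeal, Q.2, key _ hQ
        ⟨(Ideal.Fiber.algEquivAux₂ p.asIdeal Q.asIdeal).toRingEquiv.trans (Ideal.quotEquivOfEq ?_)⟩, rfl⟩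
      have hp : (Q.asIdeal.comap (Algebra.TensorProduct.includeRight : B →ₐ[A] p.asIdeal.Fiber B)).comap
          (algebraMap A B) = p.asIdeal := by rw [hQ]; rfl
      rw [Ideal.map_map, ← IsScalarTower.algebraMap_eq, hp]
    obtain ⟨h1, h2⟩ := hgen p (by
      subst hpq
      rw [IsLocalization.AtPrime.ringKrullDim_eq_height (q.comap (algebraMap A B))] at h0
      exact_mod_cast h0) Q
    haveI : IsDomain (EGA4.FibLocRing A B q) := MulEquiv.isDomain _ e.symm.toMulEquiv
    exact SerreCrit.normal_iff.1 ((normal_localRing_iff _).2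
      ⟨inferInstance, IsIntegrallyClosed.of_equiv (R := Localization.AtPrime Q) e⟩)
  intro q _
  refine (normalAt_iff q).2 ⟨fun q' _ _ hh => ?_, fun q' _ _ => ?_⟩
  · obtain ⟨h1, -⟩ := (normalAt_iff (q'.comap (algebraMap A B))).1 (hA _)
    obtain ⟨-, hdim⟩ := ring_invariants (A := A) q'
    obtain ⟨a, ha⟩ := DepthLib.exists_supportDim_eq_natCast (R := Localization.AtPrime (q'.comap (algebraMap A B)))
      (M := Localization.AtPrime (q'.comap (algebraMap A B)))
    obtain ⟨e, he⟩ := DepthLib.exists_supportDim_eq_natCast (R := EGA4.FibLocRing A B q')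
      (M := EGA4.FibLocRing A B q')
    rw [Module.supportDim_self_eq_ringKrullDim] at ha he
    have hh' : ringKrullDim (Localization.AtPrime q') ≤ ((1 : ℕ) : WithBot ℕ∞) := by
      rw [IsLocalization.AtPrime.ringKrullDim_eq_height q']
      exact_mod_cast hh
    rw [hdim, ha, he, ← Nat.cast_add, Nat.cast_le] at hh'
    haveI := h1 (q'.comap (algebraMap A B)) le_rfl (by
      rw [IsLocalization.AtPrime.ringKrullDim_eq_height (q'.comap (algebraMap A B))] at ha
      have ha' : ((q'.comap (algebraMap A B)).height : WithBot ℕ∞) ≤ ((1 : ℕ) : WithBot ℕ∞) := by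
        rw [ha, Nat.cast_le]; omega
      exact_mod_cast ha')
    haveI : IsRegularLocalRing (EGA4.FibLocRing A B q') := by
      rcases Nat.eq_zero_or_pos a with rfl | h
      · exact rkAt_self (hn q' (by simpa using ha)).1 (by rw [he, Nat.cast_le]; omega)
      · exact rkAt_self (hr q').1 (by rw [he, Nat.cast_le]; omega)
    exact regular_of_fibre (A := A) q'
  · obtain ⟨-, h2⟩ := (normalAt_iff (q'.comap (algebraMap A B))).1 (hA _)
    have hA2 := h2 _ le_rfl
    obtain ⟨hd, hdim⟩ := ring_invariants (A := A) q'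
    obtain ⟨a, ha⟩ := DepthLib.exists_supportDim_eq_natCast (R := Localization.AtPrime (q'.comap (algebraMap A B)))
      (M := Localization.AtPrime (q'.comap (algebraMap A B)))
    obtain ⟨e, he⟩ := DepthLib.exists_supportDim_eq_natCast (R := EGA4.FibLocRing A B q')
      (M := EGA4.FibLocRing A B q')
    obtain ⟨da, hda⟩ := DepthLib.exists_depth_eq_natCast (R := Localization.AtPrime (q'.comap (algebraMap A B)))
      (M := Localization.AtPrime (q'.comap (algebraMap A B)))
    obtain ⟨de, hde⟩ := DepthLib.exists_depth_eq_natCast (R := EGA4.FibLocRing A B q')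
      (M := EGA4.FibLocRing A B q')
    have hF1 := skIneq_self (hr q').2
    have hF2 : a = 0 → SkIneq 2 (EGA4.FibLocRing A B q') := fun h0 =>
      skIneq_self (hn q' (by rw [← Module.supportDim_self_eq_ringKrullDim, ha, h0]; rfl)).2
    simp only [SkIneq, ← Module.supportDim_self_eq_ringKrullDim, ha, he, hda, hde, DepthLib.cast_min_le_iff] at hA2 hF1 hF2
    rw [SkIneq, hd, hdim, ← Module.supportDim_self_eq_ringKrullDim,
      ← Module.supportDim_self_eq_ringKrullDim, ha, he, hda, hde, ← Nat.cast_add, ← Nat.cast_add,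
      DepthLib.cast_min_le_iff]
    omega

/-- A flat family over a normal integral scheme with reduced fibres and normal generic fibre is normal. -/
theorem isNormalScheme_of_reduced_fibres {X S : Scheme.{u}} [IsIntegral S] [IsLocallyNoetherian S] [IsLocallyNoetherian X]
    (hS : Pi1.IsNormalScheme S) (f : X ⟶ S) [Flat f] (hred : ∀ s : S, IsReduced (f.fiber s))
    (hgen : Pi1.IsNormalScheme (f.fiber (genericPoint S))) : Pi1.IsNormalScheme X := by
  intro x
  obtain ⟨O, hO, hxO, -⟩ := exists_isAffineOpen_mem_and_subset (X := S) (x := f x) (U := ⊤) trivial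
  obtain ⟨V, hV, hxV, hVO⟩ := exists_isAffineOpen_mem_and_subset (U := f ⁻¹ᵁ O) (x := x) hxO
  have he := HasRingHomProperty.appLE (P := @Flat) f inferInstance ⟨O, hO⟩ ⟨V, hV⟩ hVO
  algebraize [(f.appLE O V hVO).hom]
  haveI : IsNoetherianRing Γ(S, O) := IsLocallyNoetherian.component_noetherian ⟨O, hO⟩
  haveI : IsNoetherianRing Γ(X, V) := IsLocallyNoetherian.component_noetherian ⟨V, hV⟩
  haveI : Nonempty O := ⟨⟨f x, hxO⟩⟩
  have w : hV.fromSpec ≫ f = Spec.map (CommRingCat.ofHom (algebraMap Γ(S, O) Γ(X, V))) ≫ hO.fromSpec :=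
    (IsAffineOpen.SpecMap_appLE_fromSpec f hO hV hVO).symm
  let q := hV.primeIdealOf ⟨x, hxV⟩
  let := X.presheaf.algebra_section_stalk (⟨x, hxV⟩ : V)
  haveI : IsLocalization.AtPrime (X.presheaf.stalk x) q.asIdeal := hV.isLocalization_stalk ⟨x, hxV⟩
  refine NormalSmooth12.normalDomain_of_ringEquiv
    (IsLocalization.algEquiv q.asIdeal.primeCompl (Localization.AtPrime q.asIdeal) (X.presheaf.stalk x)).toRingEquiv
    (isNormalRing_of_reduced_fibres (NormalExt19.isNormalRing_of_isNormalScheme hS hO) (fun p _ => ?_) (fun p _ hp0 => ?_) q.asIdeal)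
  · exact FibRing4.isReduced_fiberRing f hV.fromSpec hO.fromSpec w ⟨p, ‹_›⟩ (hred _)
  · obtain ⟨i, hi⟩ := FibRing4.exists_openImmersion_fiber f hV.fromSpec hO.fromSpec w ⟨p, ‹_›⟩
    haveI : IsDomain Γ(S, O) := inferInstance
    have hbot : p = ⊥ := by
      by_contra hne
      exact absurd hp0 (Ideal.height_eq_zero_iff.not.2 fun h => hne (by simpa [IsDomain.minimalPrimes_eq_singleton_bot] using h))
    have hgp : hO.fromSpec ⟨p, ‹_›⟩ = genericPoint S := by
      have h1 : genericPoint (Spec Γ(S, O)) = (⟨p, ‹_›⟩ : PrimeSpectrum Γ(S, O)) := by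
        rw [genericPoint_eq_bot_of_affine]; exact PrimeSpectrum.ext hbot.symm
      exact (congrArg hO.fromSpec h1).symm.trans (genericPoint_eq_of_isOpenImmersion hO.fromSpec)
    have hgen' : Pi1.IsNormalScheme (f.fiber (hO.fromSpec ⟨p, ‹_›⟩)) := hgp ▸ hgen
    refine FlatDepth.isNormalRing_of_ringEquiv (Scheme.ΓSpecIso (CommRingCat.of (p.Fiber Γ(X, V)))).commRingCatIsoToRingEquiv
      (NormalExt19.isNormalRing_of_isNormalScheme (fun z => ?_) (isAffineOpen_top _))
    exact NormalSmooth12.normalDomain_of_ringEquiv (asIso (i.stalkMap z)).commRingCatIsoToRingEquiv (hgen' _)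

end Groth.Agent.FlatNormal19
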